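import Cfsg.Agent.H914.SixA5d
import Cfsg.Agent.H936.List12c
import Cfsg.Agent.H936.SixA7
import Cfsg.Agent.H936.SixA7Two
import Cfsg.Agent.H793.TD.Main
import Cfsg.Agent.H614.AMod.Main
import Cfsg.Agent.H689.Six.U42
import Cfsg.Agent.H871.Par7
import Cfsg.Agent.H871.Par8
import Cfsg.Agent.H871.Par9
import Cfsg.Agent.H937.T2Fields
import Cfsg.Agent.H937.G24.Row
import Cfsg.Agent.H175.BdSU
import Cfsg.Agent.H659.J1Not11
import Cfsg.Agent.H95.JT.Core
import Cfsg.Agent.H878.Sz.MainP3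
import Cfsg.Agent.H878.Sz.MainThree
import Cfsg.Agent.H476.JTwo.Main
import Cfsg.Agent.S0253
import Cfsg.Agent.S0256

/-!
# `Sp₆(q)`, residual class: the simple groups that are not of Lie type in the characteristic (helper929)

`cross_of` : `S : Hyp 3 H P`, `Soc P` known and not of Lie type in characteristic `p`: then `Soc P` is `A₅`, `A₇`, `L₂(q)`,
`U₃(3)` or `J₂`, for `A₅` and `A₇` with the conditions of S5806.
-/

set_option autoImplicit false
set_option linter.unusedSectionVars false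

namespace Cfsg.Agent.H929.Sp6

open Cfsg Cfsg.Geo Matrix Cfsg.Agent.H871.Par Cfsg.Agent.H912.Bd Cfsg.Agent.H915.LD Cfsg.Agent.H914.S6
open Cfsg.Agent.H936.List12 (lie_of_isL charP_of_dvd)

universe u v w

variable {F : Type u} [Field F] {H P : Subgroup (GL (Fin 3 ⊕ Fin 3) F)}

theorem card6 : Fintype.card (Fin 3 ⊕ Fin 3) = 6 := by simp

theorem fixA (S : Hyp 3 H P) : FixA P :=
  ⟨sympForm 3 F, H924.isSymplecticForm_sympForm, fixes_of_le S.P_le⟩

theorem not_fixQ (S : Hyp 3 H P) : ¬ FixQ P := fun h => S.noQ h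

/-- the scalars of `P` are `±1` -/
theorem z_sq (S : Hyp 3 H P) (x : P) (hx : x ∈ (scalars (Fin 3 ⊕ Fin 3) F).subgroupOf P) : x * x = 1 := by
  apply Subtype.ext
  rw [Subgroup.coe_mul, Subgroup.coe_one]
  rcases scalar_cases (by norm_num) (S.P_le x.2) (Subgroup.mem_subgroupOf.1 hx) with h | h
  · rw [h, mul_one]
  · rw [h, neg_mul_neg, mul_one]

theorem coprime_z [Finite F] (S : Hyp 3 H P) {r : ℕ} (hr : r.Prime) (hr2 : r ≠ 2) :
    (Nat.card ((scalars (Fin 3 ⊕ Fin 3) F).subgroupOf P)).Coprime r := by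
  have h1 : IsPGroup 2 ((scalars (Fin 3 ⊕ Fin 3) F).subgroupOf P) := by
    intro x
    refine ⟨1, Subtype.ext ?_⟩
    rw [pow_one, pow_two]
    exact z_sq S x.1 x.2
  have : Fact (Nat.Prime 2) := ⟨Nat.prime_two⟩
  obtain ⟨k, hk⟩ := IsPGroup.iff_card.1 h1
  rw [hk]
  exact Nat.Coprime.pow_left k ((Nat.coprime_primes Nat.prime_two hr).2 (Ne.symm hr2))

theorem z_bot_two (S : Hyp 3 H P) (h2 : (2 : F) = 0) : (scalars (Fin 3 ⊕ Fin 3) F).subgroupOf P = ⊥ := by
  rw [Subgroup.eq_bot_iff_forall]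
  intro x hx
  apply Subtype.ext
  rw [Subgroup.coe_one]
  rcases scalar_cases (by norm_num) (S.P_le x.2) (Subgroup.mem_subgroupOf.1 hx) with h | h
  · exact h
  · rw [h]
    apply Units.ext
    rw [Units.val_neg, Units.val_one]
    have h1 : (1 : F) + 1 = 0 := by rw [one_add_one_eq_two]; exact h2
    have h3 : (-1 : F) = 1 := by linear_combination -h1
    ext i j
    rw [Matrix.neg_apply, Matrix.one_apply]
    split_ifs
    · exact h3
    · exact neg_zero

/-- a projective representation of degree six with kernel of order prime to `r` -/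
theorem pr6 [Finite F] (S : Hyp 3 H P) {r : ℕ} (hr : r.Prime) (hr2 : r ≠ 2) : PR F 6 r (Soc P) := by
  have e : (Fin 3 ⊕ Fin 3) ≃ Fin 6 := finSumFinEquiv
  refine ⟨P, inferInstance, toSoc P, (H936.Reix.gr F e).toMonoidHom.comp P.subtype, toSoc_surjective P, ?_, ?_, ?_⟩
  · intro x hx y
    have h2 : x ∈ (toSoc P).ker := hx
    exact ((Subgroup.mem_center_iff.1 (ker_toSoc_le P h2)) y).symm
  · rw [ker_toSoc]
    exact coprime_z S hr hr2
  · rw [(MonoidHom.ker_eq_bot_iff _).2 ((H936.Reix.gr F e).injective.comp P.subtype_injective)]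
    exact bot_le

section

variable [Fintype F] (p : ℕ) [hp : Fact p.Prime] [hFp : CharP F p]

include hFp hp in
theorem cast_ne0 {r : ℕ} (hr : r.Prime) (h : p ≠ r) : (r : F) ≠ 0 := by
  intro h0
  rw [CharP.cast_eq_zero_iff F p] at h0
  exact h ((Nat.prime_dvd_prime_iff_eq hp.out hr).1 h0)

include hFp hp in
theorem two_ne0 (h : p ≠ 2) : (2 : F) ≠ 0 := by exact_mod_cast cast_ne0 (F := F) p Nat.prime_two h

include hFp in
theorem two_eq0 (h : p = 2) : (2 : F) = 0 := by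
  subst h
  exact_mod_cast CharP.cast_eq_zero F 2

theorem zero_or_one {K : Type*} [Field K] [Fintype K] (hK : Fintype.card K = 2) (x : K) : x = 0 ∨ x = 1 := by
  by_cases hx : x = 0
  · exact Or.inl hx
  · right
    have h3 := FiniteField.pow_card_sub_one_eq_one x hx
    rwa [hK, pow_one] at h3

/-! ### alternating groups -/

/-- the alternative `A₅` of S5806 -/
def Five (p : ℕ) (P : Subgroup (GL (Fin 3 ⊕ Fin 3) F)) : Prop :=
  Nonempty ((P ⧸ (scalars (Fin 3 ⊕ Fin 3) F).subgroupOf P) ≃* alternatingGroup (Fin 5)) ∧ Fintype.card F = p ∧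
    (p % 40 = 3 ∨ p % 40 = 37 ∨ p % 40 = 13 ∨ p % 40 = 27 ∨ p % 8 = 1 ∨ p % 8 = 7)

/-- the alternative `A₇` of S5806 -/
def Sev (P : Subgroup (GL (Fin 3 ⊕ Fin 3) F)) : Prop :=
  Nonempty ((P ⧸ (scalars (Fin 3 ⊕ Fin 3) F).subgroupOf P) ≃* alternatingGroup (Fin 7)) ∧ Fintype.card F = 9

theorem a5_row (S : Hyp 3 H P) (e : Soc P ≃* alternatingGroup (Fin 5)) : Five p P := by
  obtain ⟨h2, h5, hF, hneg⟩ := H937.T2.sp_six_a5_neg p S.max S.core e
  refine ⟨⟨e⟩, hF, ?_⟩
  by_contra hcon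
  have hodd : p % 2 = 1 := hp.out.eq_two_or_odd.resolve_left h2
  have h5' : p % 5 ≠ 0 := fun h =>
    h5 ((Nat.prime_dvd_prime_iff_eq (by norm_num) hp.out).1 (Nat.dvd_of_mod_eq_zero h)).symm
  have h8 : p % 8 = 3 ∨ p % 8 = 5 := by omega
  have h51 : p % 5 = 0 ∨ p % 5 = 1 ∨ p % 5 = 4 := by omega
  have h7 : 7 ≤ p := by
    by_contra h
    have : p ≤ 6 := by omega
    interval_cases p <;> omega
  obtain ⟨τ, hτ⟩ := H476.JTwo.exists_tau hp.out hF (two_ne0 (F := F) p h2) h51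
  have : Fact (Nat.Prime 5) := ⟨by norm_num⟩
  obtain ⟨f⟩ := Cfsg.Agent.S0253.result (F := ZMod 5) (ZMod.card 5)
  refine H914.S6.a5_false' S p h7 hneg (e.trans f.symm) ?_ hτ
  rw [FiniteField.isSquare_two_iff, hF]
  omega

include hFp hp in
theorem a7_row (S : Hyp 3 H P) (e : Soc P ≃* alternatingGroup (Fin 7)) : Sev P := by
  have hC := S.toCore
  by_cases h2 : p = 2
  · subst h2
    exact (S.noQ (H936.SixA7Two.a7_two hC (fixA S) card6 (z_bot_two S (two_eq0 2 rfl)) e)).elim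
  · by_cases hZ : (scalars (Fin 3 ⊕ Fin 3) F).subgroupOf P = ⊥
    · exact (H936.SixA7.a7_simple hC (two_ne0 p h2) (fixA S) card6 hZ e).elim
    · exact ⟨⟨e⟩, (H793.TD.a7_double p hC h2 (fixA S) card6 hZ e).2⟩

theorem alt_row (S : Hyp 3 H P) (hL : ¬ IsLieTypeChar p (Soc P)) {m : ℕ} (hm : 5 ≤ m)
    (e : Soc P ≃* alternatingGroup (Fin m)) : Five p P ∨ Sev P := by
  have hC := S.toCore
  have hm' : m = 5 ∨ m = 6 ∨ m = 7 ∨ 8 ≤ m := by omega
  rcases hm' with rfl | rfl | rfl | hm'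
  · exact Or.inl (a5_row p S e)
  · exfalso
    obtain ⟨K, i1, i2, hK, -, hf⟩ := H937.T2.exists_nine e
    have hp3 : p ≠ 3 := by
      rintro rfl
      exact hL (lie_of_isL (by norm_num) (by norm_num : 3 ∣ 9) le_rfl (by norm_num) ⟨K, i1, i2, hK, hf⟩)
    have h := H937.T2.a6_dims p hC e
      ((Nat.Prime.coprime_iff_not_dvd Nat.prime_three).1 (coprime_z S Nat.prime_three (by norm_num)).symm) hp3
    rw [card6] at h
    revert h
    decide
  · exact Or.inr (a7_row p S e)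
  · exfalso
    have h82 : ¬ (m = 8 ∧ p = 2) := by
      rintro ⟨rfl, rfl⟩
      have : Fact (Nat.Prime 2) := ⟨by norm_num⟩
      obtain ⟨e'⟩ := S0256.result (F := ZMod 2) (by simp)
      exact hL (lie_of_isL (by norm_num) (dvd_refl 2) (by norm_num) (by norm_num) ⟨ZMod 2, inferInstance, inferInstance,
        by simp, ⟨e.trans e'.symm⟩⟩)
    rcases H614.AMod.Main.alt_cases hC p e hm' (by rw [card6]; norm_num) h82 with h | h | h
    · rcases h.dim hC hm' p with ⟨-, h1⟩ | ⟨h1, h3⟩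
      · rw [card6] at h1; omega
      · rw [card6] at h3
        have hm8 : m = 8 := by omega
        subst hm8
        have : p = 2 := by
          have h4 : p ∣ 2 ^ 3 := by norm_num; exact h1
          exact (Nat.prime_dvd_prime_iff_eq hp.out Nat.prime_two).1 (hp.out.dvd_of_dvd_pow h4)
        exact h82 ⟨rfl, this⟩
    · have h1 := h.n8
      rw [card6] at h1; omega
    · have h1 := h.1
      rw [card6] at h1; omega

/-! ### groups of Lie type -/

theorem l34_row (S : Hyp 3 H P) (hp2 : p ≠ 2) (h : IsL 3 4 (Soc P)) : False := by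
  obtain ⟨K, _, _, hK, ⟨e⟩⟩ := h
  have h1 := (pa_of_fixA (fixA S) (two_ne0 p hp2) (MulEquiv.refl _)).psl34 (two_ne0 p hp2) hK e
  rw [card6] at h1
  omega

theorem u42_row (S : Hyp 3 H P) (hp2 : p ≠ 2) (hp3 : p ≠ 3) (h : IsU 4 2 (Soc P)) : False := by
  obtain ⟨K, _, _, hK, ⟨e⟩⟩ := h
  have h5 : 5 ≤ p := by
    have h1 := hp.out.two_le
    have h4 : p ≠ 4 := by rintro rfl; exact absurd hp.out (by norm_num)
    omega
  exact H689.Six.u42_six p h5 S.toCore (fixA S) card6 (by rw [hK]; norm_num) e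

theorem u43_row (S : Hyp 3 H P) (hp3 : p ≠ 3) (h : IsU 4 3 (Soc P)) : False := by
  obtain ⟨K, _, _, hK, ⟨e⟩⟩ := h
  have : CharP K 3 := charP_of_dvd (p := 3) Nat.prime_three (by rw [hK]; norm_num)
  have h3F : ((3 : ℕ) : F) ≠ 0 := cast_ne0 p Nat.prime_three hp3
  have h1 := H175.BdSU.bd_psu (F := F) Nat.prime_three hK (by norm_num) h3F e 6 (pr6 S Nat.prime_three (by norm_num))
  omega

theorem s32_row (S : Hyp 3 H P) (hp2 : p ≠ 2) (h : IsS 3 2 (Soc P)) : False := by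
  obtain ⟨K, _, _, hK, ⟨e⟩⟩ := h
  have : CharP K 2 := charP_of_dvd (p := 2) Nat.prime_two (by rw [hK])
  have h1 := (pa_of_fixA (fixA S) (two_ne0 p hp2) e).of_frob8 (two_ne0 p hp2) frob8_psp
  rw [card6] at h1
  omega

theorem o42_row (S : Hyp 3 H P) (hp2 : p ≠ 2) (h : IsOP 4 2 (Soc P)) : False := by
  obtain ⟨K, _, _, hK, ⟨e⟩⟩ := h
  have : CharP K 2 := charP_of_dvd (p := 2) Nat.prime_two (by rw [hK])
  have h1 := (pa_of_fixA (fixA S) (two_ne0 p hp2) e).of_frob8 (two_ne0 p hp2) (frob8_plus (by norm_num))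
  rw [card6] at h1
  omega

theorem g24_row (_S : Hyp 3 H P) (hp2 : p ≠ 2) (h : H912.Bd.IsG2 4 (Soc P)) : False := by
  obtain ⟨K, i1, i2, hK, ⟨e⟩⟩ := h
  have h1 := H937.G24.core_ge hK (two_ne0 p hp2) e
  rw [card6] at h1
  omega

/-! ### sporadic groups -/

include hFp hp in
theorem mat_row (S : Hyp 3 H P) {T : Type} [Group T] (e : Soc P ≃* T) (hf : Frob11 T) (hq : Quat9 T) : False := by
  by_cases h11 : p = 11
  · subst h11
    have h2 : (2 : F) ≠ 0 := two_ne0 11 (by norm_num)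
    have h3 : (3 : F) ≠ 0 := by exact_mod_cast cast_ne0 (F := F) 11 Nat.prime_three (by norm_num)
    have h1 := (pa_of_fixA (fixA S) h2 e).of_quat9 h2 h3 hq
    rw [card6] at h1
    omega
  · have h11' : (11 : F) ≠ 0 := by exact_mod_cast cast_ne0 (F := F) p (by norm_num : Nat.Prime 11) h11
    have h1 := (pd_of_sd S.toCore S.sd e).of_frob11 h11' hf
    rw [card6] at h1
    omega

include hFp hp in
theorem j1_row (S : Hyp 3 H P) (h : Spor.IsoJ1 (Soc P)) : False := by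
  by_cases h2 : p = 2
  · exact H659.J1.not_core S.toCore h p (by omega) (by rw [card6]; norm_num)
  · obtain ⟨e⟩ := h
    have h1 := (pa_of_fixA (fixA S) (two_ne0 p h2) e).of_frob8 (two_ne0 p h2) frob8_J1
    rw [card6] at h1
    omega

include hFp hp in
theorem suz_row (S : Hyp 3 H P) (h : Spor.IsoSuz (Soc P)) : False := by
  obtain ⟨e⟩ := h
  by_cases hp3 : p = 3
  · subst hp3
    have h1 := (H878.Sz.core_Suz_three S.toCore e (by rw [card6]; norm_num)).1
    rw [card6] at h1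
    omega
  · have h1 := (H878.Sz.core_Suz S.toCore e (by rw [card6]; norm_num) p hp3).1
    rw [card6] at h1
    omega

include hFp hp in
theorem j3_row (S : Hyp 3 H P) (h : Spor.IsoJ3 (Soc P)) : False := by
  have h1 := (H95.JT.j3 p S.toCore h (by rw [card6]; norm_num)).2.1
  rw [card6] at h1
  omega

include hFp hp in
theorem spor_row (S : Hyp 3 H P) (h : H936.List12.SporC (Soc P)) : Spor.IsoJ2 (Soc P) := by
  rcases h with h | h | h | h | h | h | h | h | h
  · obtain ⟨e⟩ := h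
    exact (mat_row p S e frob11_M11 quat9_M11).elim
  · obtain ⟨e⟩ := h
    exact (mat_row p S e frob11_M12 quat9_M12).elim
  · obtain ⟨e⟩ := h
    exact (mat_row p S e frob11_M22 quat9_M22).elim
  · obtain ⟨e⟩ := h
    exact (mat_row p S e frob11_M23 quat9_M23).elim
  · obtain ⟨e⟩ := h
    exact (mat_row p S e frob11_M24 quat9_M24).elim
  · exact (j1_row p S h).elim
  · exact h
  · exact (j3_row p S h).elim
  · exact (suz_row p S h).elim

/-- **Cross characteristic.** -/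
theorem cross_of (S : Hyp 3 H P) (hk : IsKnownSimple' (Soc P)) (hL : ¬ IsLieTypeChar p (Soc P)) :
    Five p P ∨ Sev P ∨
    (∃ q : ℕ, q ∈ ({7, 8, 11, 13, 17, 19, 23, 25} : Finset ℕ) ∧ ¬ p ∣ q ∧ IsL 2 q (Soc P)) ∨
    (p ≠ 3 ∧ IsU 3 3 (Soc P)) ∨ Spor.IsoJ2 (Soc P) := by
  have hC := S.toCore
  have h0 := H936.List12.list (p := p) (by rw [card6]; norm_num) hC hk hL
  rw [card6] at h0
  rcases h0 with h | h | h | h | h
  · obtain ⟨m, h5, -, -, -, -, ⟨e⟩⟩ := h
    rcases alt_row p S hL h5 e with h | h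
    · exact Or.inl h
    · exact Or.inr (Or.inl h)
  · rcases h with ⟨q, hq, hpq, -, h⟩ | ⟨-, h1, -⟩ | ⟨h1, -, h⟩ | ⟨-, h1, -⟩ | ⟨h1, h2, -, h⟩ | ⟨-, h1, -⟩ |
      ⟨-, h1, -⟩ | ⟨-, h1, -⟩ | ⟨-, h1, -⟩
    · exact Or.inr (Or.inr (Or.inl ⟨q, hq, hpq, h⟩))
    · omega
    · exact Or.inr (Or.inr (Or.inr (Or.inl ⟨h1, h⟩)))
    · omega
    · exact (u42_row p S h1 h2 h).elim
    · omega
    · omega
    · omega
    · omega
  · rcases h with ⟨h1, -, h | h | ⟨h3, h⟩ | h | h | h⟩ | ⟨h1, -, h⟩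
    · have hp7 : ¬ p ∣ 7 := by
        intro h7
        have := (Nat.prime_dvd_prime_iff_eq hp.out (by norm_num)).1 h7
        subst this
        exact hL (lie_of_isL hp.out (dvd_refl 7) le_rfl (by norm_num) h)
      exact Or.inr (Or.inr (Or.inl ⟨7, by decide, hp7, h⟩))
    · exact (l34_row p S h1 h).elim
    · exact (u42_row p S h1 h3 h).elim
    · exact (s32_row p S h1 h).elim
    · exact (o42_row p S h1 h).elim
    · exact (g24_row p S h1 h).elim
    · exact (u43_row p S h1 h).elim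
  · omega
  · exact Or.inr (Or.inr (Or.inr (Or.inr (spor_row p S h))))

end

end Cfsg.Agent.H929.Sp6
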